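import Groth.Agent.EtDescSplit.HFunctor
import Groth.Agent.H9ExtNat.Basic
import Groth.Agent.S8525
import Groth.Agent.BigSiteLib.EtDescSec.Via
import Groth.Prelude.Def_EtAcyc

/-!
# Acyclicity of composites
-/

set_option autoImplicit false
set_option linter.style.haveILetI false
set_option linter.unusedSectionVars false
set_option backward.isDefEq.respectTransparency false
set_option backward.isDefEq.respectTransparency.types false
universe u

open CategoryTheory CategoryTheory.Limits AlgebraicGeometry Opposite CategoryTheory.Abelian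


namespace Groth.Agent.EtAcycLib

variable {W U X : Scheme.{u}}

theorem bijective_comp_mk₀ {A B B' : EtCoh.Ab X} {n : ℕ} (e : B ≅ B') :
    Function.Bijective (fun x : Ext A B n => x.comp (Ext.mk₀ e.hom) (add_zero n)) :=
  ⟨fun _ _ h => EtDescSplit.comp_mk₀_iso_injective e h, fun y => ⟨y.comp (Ext.mk₀ e.inv) (add_zero n), by simp⟩⟩

theorem bijective_mk₀_comp {A A' B : EtCoh.Ab X} {n : ℕ} (e : A' ≅ A) :
    Function.Bijective (fun x : Ext A B n => (Ext.mk₀ e.hom).comp x (zero_add n)) :=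
  ⟨fun _ _ h => EtDescSplit.mk₀_iso_comp_injective e h, fun y => ⟨(Ext.mk₀ e.inv).comp y (zero_add n), by simp⟩⟩

/-- pullback of cohomology classes along a composite -/
theorem Hpull_comp (g : W ⟶ U) (f : U ⟶ X) (h : W ⟶ X) (w : g ≫ f = h)
    [PreservesFiniteLimits (EtCoh.pull g)] [PreservesFiniteLimits (EtCoh.pull f)] [PreservesFiniteLimits (EtCoh.pull h)]
    (F : EtCoh.Ab X) (n : ℕ) (α : EtCoh.H X F n) :
    (EtCore.Hpull g _ n (EtCore.Hpull f F n α)).comp
      (Ext.mk₀ (((EtCore.pullComp g f).symm ≪≫ EtCore.pullCongr w).hom.app F)) (add_zero n) =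
      EtCore.Hpull h F n α := by
  rw [EtMVLib.Hpull_apply, EtMVLib.Hpull_apply, EtMVLib.Hpull_apply, Ext.mapExactFunctor_comp,
    Ext.mapExactFunctor_mk₀, ← EtMVLib.pullConst_comp (j := f) h g w, ← Ext.mk₀_comp_mk₀, ← Ext.mk₀_comp_mk₀]
  simp only [Ext.comp_assoc_of_third_deg_zero, Ext.comp_assoc_of_second_deg_zero]
  exact congrArg (fun z => (Ext.mk₀ _).comp ((Ext.mk₀ _).comp z (zero_add n)) (zero_add n))
    (H9ExtNat.mapExt_comp_natural (EtCoh.pull f) (EtCoh.pull g) (EtCoh.pull h)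
      ((EtCore.pullComp g f).symm ≪≫ EtCore.pullCongr w).hom α)

theorem bijective_Hpull_comp_iff (g : W ⟶ U) (f : U ⟶ X) (h : W ⟶ X) (w : g ≫ f = h)
    [PreservesFiniteLimits (EtCoh.pull g)] [PreservesFiniteLimits (EtCoh.pull f)] [PreservesFiniteLimits (EtCoh.pull h)]
    (F : EtCoh.Ab X) (n : ℕ) :
    (Function.Bijective (EtCore.Hpull h F n) ↔
      Function.Bijective (EtCore.Hpull g ((EtCoh.pull f).obj F) n ∘ EtCore.Hpull f F n)) ∧
    (Function.Injective (EtCore.Hpull h F n) ↔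
      Function.Injective (EtCore.Hpull g ((EtCoh.pull f).obj F) n ∘ EtCore.Hpull f F n)) := by
  have e : ⇑(EtCore.Hpull h F n) = (fun x => x.comp
      (Ext.mk₀ (((EtCore.pullComp g f).symm ≪≫ EtCore.pullCongr w).hom.app F)) (add_zero n)) ∘
      (EtCore.Hpull g ((EtCoh.pull f).obj F) n ∘ EtCore.Hpull f F n) :=
    funext fun α => (Hpull_comp g f h w F n α).symm
  have hb := bijective_comp_mk₀ (A := EtCoh.const W ℤ) (n := n)
    ((((EtCore.pullComp g f).symm ≪≫ EtCore.pullCongr w)).app F)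
  rw [e]
  exact ⟨Function.Bijective.of_comp_iff' hb _, ⟨fun H => Function.Injective.of_comp H, hb.1.comp⟩⟩

theorem bijective_Hpull_id (F : EtCoh.Ab X) (n : ℕ) [PreservesFiniteLimits (EtCoh.pull (𝟙 X))] :
    Function.Bijective (EtCore.Hpull (𝟙 X) F n) := by
  have e : (fun x => x.comp (Ext.mk₀ ((EtDescSplit.pullId X).hom.app F)) (add_zero n)) ∘ ⇑(EtCore.Hpull (𝟙 X) F n) =
      fun α => (Ext.mk₀ ((EtCore.pullConst (𝟙 X) ℤ).inv ≫ (EtDescSplit.pullId X).hom.app _)).comp α (zero_add n) := by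
    funext α
    simp only [Function.comp_apply, EtMVLib.Hpull_apply, Ext.comp_assoc_of_third_deg_zero]
    rw [EtMVLib.mapExactFunctor_natTrans (EtCoh.pull (𝟙 X)) _ (EtDescSplit.pullId X).hom α,
      EtMVLib.mapExactFunctor_id, ← Ext.mk₀_comp_mk₀_assoc]
  rw [← Function.Bijective.of_comp_iff' (bijective_comp_mk₀ ((EtDescSplit.pullId X).app F))]
  erw [e]
  exact bijective_mk₀_comp ((EtCore.pullConst (𝟙 X) ℤ).symm ≪≫ (EtDescSplit.pullId X).app _)

theorem bijective_Hpull_of_isIso (g : W ⟶ X) [IsIso g] [PreservesFiniteLimits (EtCoh.pull g)] (F : EtCoh.Ab X)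
    (n : ℕ) : Function.Bijective (EtCore.Hpull g F n) := by
  have h₁ : ∀ (F : EtCoh.Ab X), Function.Bijective (EtCore.Hpull (inv g) ((EtCoh.pull g).obj F) n ∘ EtCore.Hpull g F n) :=
    fun F => ((bijective_Hpull_comp_iff (inv g) g (𝟙 X) (IsIso.inv_hom_id g) F n).1).1 (bijective_Hpull_id F n)
  have h₂ := ((bijective_Hpull_comp_iff g (inv g) (𝟙 W) (IsIso.hom_inv_id g) ((EtCoh.pull g).obj F) n).1).1
    (bijective_Hpull_id ((EtCoh.pull g).obj F) n)
  have hs : Function.Bijective (EtCore.Hpull (inv g) ((EtCoh.pull g).obj F) n) :=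
    ⟨h₂.1.of_comp, (h₁ F).2.of_comp⟩
  exact (Function.Bijective.of_comp_iff' hs _).1 (h₁ F)

theorem isLTorsion_pull (f : W ⟶ X) {L : Set ℕ} {F : EtCoh.Ab X} (hF : EtAcyc.IsLTorsion L F) :
    EtAcyc.IsLTorsion L ((EtCoh.pull f).obj F) := by
  rw [S8525.result] at hF ⊢
  intro Ω _ _ ξ t
  let e := (EtFound.stalkPullIso f ξ).app F
  obtain ⟨m, hm, hm'⟩ := hF Ω (ξ ≫ f) (e.hom t)
  exact ⟨m, hm, (ConcreteCategory.bijective_of_isIso e.hom).1 (by rw [map_nsmul, hm', map_zero])⟩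

variable {X' Y Z : Scheme.{u}} (g : X' ⟶ Y) (h : Y ⟶ Z) (V : Z.Etale)

/-- the projection of a composite in two steps -/
theorem prj_comp : ∃ (e : pullback V.hom (g ≫ h) ⟶ pullback ((EtCoh.bc h).obj V).hom g), IsIso e ∧
    (e ≫ EtAcyc.prj g ((EtCoh.bc h).obj V)) ≫ EtAcyc.prj h V = EtAcyc.prj (g ≫ h) V := by
  let i := pullbackLeftPullbackSndIso V.hom h g
  refine ⟨i.inv, inferInstance, ?_⟩
  show (i.inv ≫ pullback.fst (pullback.snd V.hom h) g) ≫ pullback.fst V.hom h = pullback.fst V.hom (g ≫ h)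
  rw [Category.assoc, Iso.inv_comp_eq]
  exact (pullbackLeftPullbackSndIso_hom_fst V.hom h g).symm

/-- along an acyclic morphism, acyclicity of a composite is acyclicity of the second factor -/
theorem isAcyclicN_comp_iff {L : Set ℕ} {n : ℕ} (hg : EtAcyc.IsAcyclicN g L n) :
    EtAcyc.IsAcyclicN h L n ↔ EtAcyc.IsAcyclicN (g ≫ h) L n := by
  refine forall_congr' fun V => forall₂_congr fun F hF => ?_
  obtain ⟨e, he, hee⟩ := prj_comp g h V
  haveI := he
  let a := EtAcyc.prj g ((EtCoh.bc h).obj V)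
  let b := EtAcyc.prj h V
  have ha := hg ((EtCoh.bc h).obj V) _ (isLTorsion_pull b hF)
  have key : ∀ q, (Function.Bijective (EtCore.Hpull (EtAcyc.prj (g ≫ h) V) F q) ↔
      Function.Bijective (EtCore.Hpull a ((EtCoh.pull b).obj F) q ∘ EtCore.Hpull b F q)) ∧
      (Function.Injective (EtCore.Hpull (EtAcyc.prj (g ≫ h) V) F q) ↔
      Function.Injective (EtCore.Hpull a ((EtCoh.pull b).obj F) q ∘ EtCore.Hpull b F q)) := by
    intro q
    have h₁ := bijective_Hpull_comp_iff (e ≫ a) b (EtAcyc.prj (g ≫ h) V) hee F q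
    have h₂ := bijective_Hpull_comp_iff e a (e ≫ a) rfl ((EtCoh.pull b).obj F) q
    have he' := bijective_Hpull_of_isIso e ((EtCoh.pull a).obj ((EtCoh.pull b).obj F)) q
    constructor
    · refine h₁.1.trans ?_
      rw [← Function.Bijective.of_comp_iff' he' (EtCore.Hpull a ((EtCoh.pull b).obj F) q ∘ EtCore.Hpull b F q)]
      have e' : ⇑(EtCore.Hpull (e ≫ a) ((EtCoh.pull b).obj F) q) = (fun x => x.comp
          (Ext.mk₀ (((EtCore.pullComp e a).symm ≪≫ EtCore.pullCongr rfl).hom.app ((EtCoh.pull b).obj F))) (add_zero q)) ∘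
          (EtCore.Hpull e _ q ∘ EtCore.Hpull a _ q) := funext fun α => (Hpull_comp e a (e ≫ a) rfl _ q α).symm
      erw [e']
      exact Function.Bijective.of_comp_iff'
        (bijective_comp_mk₀ (((EtCore.pullComp e a).symm ≪≫ EtCore.pullCongr rfl).app _)) _
    · refine h₁.2.trans ?_
      have e' : ⇑(EtCore.Hpull (e ≫ a) ((EtCoh.pull b).obj F) q) = (fun x => x.comp
          (Ext.mk₀ (((EtCore.pullComp e a).symm ≪≫ EtCore.pullCongr rfl).hom.app ((EtCoh.pull b).obj F))) (add_zero q)) ∘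
          (EtCore.Hpull e _ q ∘ EtCore.Hpull a _ q) := funext fun α => (Hpull_comp e a (e ≫ a) rfl _ q α).symm
      erw [e']
      rw [Function.comp_assoc]
      exact ⟨fun H => H.of_comp.of_comp (f := EtCore.Hpull e _ q), fun H =>
        (bijective_comp_mk₀ (((EtCore.pullComp e a).symm ≪≫ EtCore.pullCongr rfl).app _)).1.comp (he'.1.comp H)⟩
  constructor
  · intro H inst
    obtain ⟨H₁, H₂⟩ := H
    obtain ⟨A₁, A₂⟩ := @ha
    exact ⟨fun q hq => (key q).1.2 ((A₁ q hq).comp (H₁ q hq)), (key _).2.2 (A₂.comp H₂)⟩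
  · intro H inst
    obtain ⟨H₁, H₂⟩ := H
    obtain ⟨A₁, A₂⟩ := @ha
    exact ⟨fun q hq => (Function.Bijective.of_comp_iff' (A₁ q hq) _).1 ((key q).1.1 (H₁ q hq)),
      Function.Injective.of_comp ((key _).2.1 H₂)⟩

/-- unit of a composite -/
theorem isIso_unit_comp_iff {P Q R : Scheme.{u}} (k : P ⟶ Q) (f : Q ⟶ R) (F : EtDesc.Sh R)
    [IsIso ((EtDesc.adjSh k).unit.app ((EtDesc.pullSh f).obj F))] :
    IsIso ((EtDesc.adjSh (k ≫ f)).unit.app F) ↔ IsIso ((EtDesc.adjSh f).unit.app F) := by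
  let A2 := ((EtDesc.adjSh f).comp (EtDesc.adjSh k)).ofNatIsoRight (EtDesc.pushCompSh f k)
  have hu : (EtDesc.adjSh (k ≫ f)).unit.app F ≫ (EtDesc.pushSh (k ≫ f)).map ((EtDesc.pullCompSh k f).hom.app F) =
      A2.unit.app F :=
    Adjunction.unit_leftAdjointUniq_hom_app (EtDesc.adjSh (k ≫ f)) A2 F
  have hu2 : A2.unit.app F = (EtDesc.adjSh f).unit.app F ≫
      (EtDesc.pushSh f).map ((EtDesc.adjSh k).unit.app ((EtDesc.pullSh f).obj F)) ≫
        (EtDesc.pushCompSh f k).hom.app _ := by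
    simp [A2, Adjunction.ofNatIsoRight, Adjunction.mkOfHomEquiv, Adjunction.equivHomsetRightOfNatIso,
      Adjunction.homEquiv_unit, Adjunction.comp_unit_app]
  have e := hu.trans hu2
  constructor
  · intro
    have : IsIso ((EtDesc.adjSh f).unit.app F ≫ ((EtDesc.pushSh f).map ((EtDesc.adjSh k).unit.app ((EtDesc.pullSh f).obj F)) ≫
        (EtDesc.pushCompSh f k).hom.app _)) := e ▸ inferInstance
    exact IsIso.of_isIso_comp_right _ ((EtDesc.pushSh f).map ((EtDesc.adjSh k).unit.app ((EtDesc.pullSh f).obj F)) ≫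
        (EtDesc.pushCompSh f k).hom.app _)
  · intro
    have : IsIso ((EtDesc.adjSh (k ≫ f)).unit.app F ≫ (EtDesc.pushSh (k ≫ f)).map ((EtDesc.pullCompSh k f).hom.app F)) :=
      e ▸ inferInstance
    exact IsIso.of_isIso_comp_right _ ((EtDesc.pushSh (k ≫ f)).map ((EtDesc.pullCompSh k f).hom.app F))

/-- the direct image along the identity -/
noncomputable def pushShId (X : Scheme.{u}) : EtDesc.pushSh (𝟙 X) ≅ 𝟭 (EtDesc.Sh X) :=
  Functor.sheafPushforwardContinuousId' (EtDescSplit.bcId X) (Type (u + 1)) X.smallEtaleTopology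

theorem isIso_unit_of_isIso {P Q : Scheme.{u}} (k : P ⟶ Q) [IsIso k] (F : EtDesc.Sh Q) :
    IsIso ((EtDesc.adjSh k).unit.app F) := by
  haveI : (EtDesc.pushSh k).IsEquivalence :=
    (CategoryTheory.Equivalence.mk (EtDesc.pushSh k) (EtDesc.pushSh (inv k))
      ((pushShId P).symm ≪≫ eqToIso (by rw [IsIso.hom_inv_id]) ≪≫ (EtDesc.pushCompSh (inv k) k).symm)
      ((EtDesc.pushCompSh k (inv k)) ≪≫ eqToIso (by rw [IsIso.inv_hom_id]) ≪≫ pushShId Q)).isEquivalence_functor
  haveI : (EtDesc.pullSh k).IsEquivalence := (EtDesc.adjSh k).isEquivalence_left_of_isEquivalence_right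
  infer_instance

/-- along a 0-acyclic morphism, 0-acyclicity of a composite is that of the second factor -/
theorem isZeroAcyclic_comp_iff (hg : EtAcyc.IsZeroAcyclic g) :
    EtAcyc.IsZeroAcyclic h ↔ EtAcyc.IsZeroAcyclic (g ≫ h) := by
  refine forall_congr' fun V => forall_congr' fun F => ?_
  obtain ⟨e, he, hee⟩ := prj_comp g h V
  haveI := he
  let a := EtAcyc.prj g ((EtCoh.bc h).obj V)
  let b := EtAcyc.prj h V
  haveI := isIso_unit_of_isIso e ((EtDesc.pullSh a).obj ((EtDesc.pullSh b).obj F))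
  have hu : IsIso ((EtDesc.adjSh (e ≫ a)).unit.app ((EtDesc.pullSh b).obj F)) :=
    (isIso_unit_comp_iff e a _).2 (hg _ _)
  rw [← hee]
  exact (@isIso_unit_comp_iff _ _ _ (e ≫ a) b F hu).symm

end Groth.Agent.EtAcycLib
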