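import Groth.Agent.BcQCalc.HofPushInj
import Groth.Agent.BcQCalc.EtaleBC
import Groth.Agent.EtAcycLib.Compose
import Groth.Prelude.Def_EtAcyc

/-!
# Acyclicity: the unit and the higher direct images
-/

set_option autoImplicit false
set_option linter.unusedSectionVars false
set_option linter.style.haveILetI false
set_option backward.isDefEq.respectTransparency false
set_option backward.isDefEq.respectTransparency.types false

universe u

open CategoryTheory CategoryTheory.Limits AlgebraicGeometry Opposite Abelian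

noncomputable section

namespace Groth.Agent.EtAcycLib.UnitRpush

open Groth.Agent.BcQCalc Groth.Agent.EtLim8

/-- Two composite adjunctions along isomorphic right adjoints: the comparison of left adjoints. -/
theorem isIso_mate {C₀ C₁ C₂ D : Type*} [Category C₀] [Category C₁] [Category C₂] [Category D]
    {L₁ : C₀ ⥤ C₁} {R₁ : C₁ ⥤ C₀} {L₁' : C₁ ⥤ D} {R₁' : D ⥤ C₁}
    {L₂ : C₀ ⥤ C₂} {R₂ : C₂ ⥤ C₀} {L₂' : C₂ ⥤ D} {R₂' : D ⥤ C₂}
    (a₁ : L₁ ⊣ R₁) (a₁' : L₁' ⊣ R₁') (a₂ : L₂ ⊣ R₂) (a₂' : L₂' ⊣ R₂')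
    (θ : R₁' ⋙ R₁ ≅ R₂' ⋙ R₂) (F : C₀) :
    IsIso ((a₂'.homEquiv _ _).symm (L₂.map (a₁.unit.app F) ≫
      (a₂.homEquiv _ _).symm (R₁.map (a₁'.unit.app (L₁.obj F)) ≫ θ.hom.app (L₁'.obj (L₁.obj F))))) := by
  let A := a₂.comp a₂'
  let B := (a₁.comp a₁').ofNatIsoRight θ
  have h : (Adjunction.leftAdjointUniq A B).hom.app F = (a₂'.homEquiv _ _).symm (L₂.map (a₁.unit.app F) ≫
      (a₂.homEquiv _ _).symm (R₁.map (a₁'.unit.app (L₁.obj F)) ≫ θ.hom.app (L₁'.obj (L₁.obj F)))) := by
    rw [← Adjunction.homEquiv_naturality_left_symm]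
    apply (A.homEquiv _ _).injective
    rw [Adjunction.comp_homEquiv]
    refine Eq.trans ?_ (((Equiv.apply_symm_apply (a₂.homEquiv _ _) _).symm).trans
      (congrArg (a₂.homEquiv _ _) (Equiv.apply_symm_apply (a₂'.homEquiv _ _) _).symm))
    have := Adjunction.unit_leftAdjointUniq_hom_app A B F
    simp only [A, B, Adjunction.homEquiv_unit, Adjunction.comp_unit_app, Adjunction.ofNatIsoRight_unit,
      Functor.comp_map, Functor.comp_obj, NatTrans.comp_app, Functor.whiskerLeft_app, Functor.map_comp,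
      Category.assoc, Equiv.trans_apply] at this ⊢
    exact this
  rw [← h]
  infer_instance

section Detect

variable {V : Scheme.{u}}

/-- Sections of the restriction to an étale `V`-scheme. -/
def secEquiv (M : EtCoh.Ab V) (U : V.Etale) :
    (EtCore.gsec U.left).obj ((EtCoh.pull U.hom).obj M) ≅ M.obj.obj (op U) :=
  haveI : AlgebraicGeometry.Etale U.hom := U.prop
  haveI := EtFound.jCont U.hom
  (EtCore.gsec U.left).mapIso ((EtLC12.AffineLocalAcyclic.restrIsoPull U.hom).app M).symm ≪≫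
    M.obj.mapIso (MorphismProperty.Over.isoMk (Iso.refl U.left) (by simp; rfl) :
      U ≅ (EtShriek.compEtale U.hom).obj (EtCoh.top U.left)).op

theorem secEquiv_natural {M N : EtCoh.Ab V} (φ : M ⟶ N) (U : V.Etale) :
    (EtCore.gsec U.left).map ((EtCoh.pull U.hom).map φ) ≫ (secEquiv N U).hom =
      (secEquiv M U).hom ≫ φ.hom.app (op U) := by
  haveI : AlgebraicGeometry.Etale U.hom := U.prop
  haveI := EtFound.jCont U.hom
  dsimp only [secEquiv, Iso.trans_hom, Functor.mapIso_hom, Iso.symm_hom, Iso.app_inv]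
  rw [← Category.assoc, ← Functor.map_comp, (EtLC12.AffineLocalAcyclic.restrIsoPull U.hom).inv.naturality,
    Functor.map_comp, Category.assoc, Category.assoc]
  exact congrArg _ (φ.hom.naturality _).symm

/-- A morphism inducing bijections on `H⁰` of all étale `V`-schemes is an isomorphism. -/
theorem isIso_of_H0 {M N : EtCoh.Ab V} (φ : M ⟶ N)
    (h : ∀ U : V.Etale, Function.Bijective
      (fun x : EtCoh.H U.left ((EtCoh.pull U.hom).obj M) 0 =>
        x.comp (Ext.mk₀ ((EtCoh.pull U.hom).map φ)) (add_zero 0))) : IsIso φ := by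
  haveI : IsIso φ.hom := by
    haveI : ∀ U, IsIso (φ.hom.app U) := fun ⟨U⟩ => by
      have hHom : Function.Bijective (fun f : EtCoh.const U.left ℤ ⟶ (EtCoh.pull U.hom).obj M =>
          f ≫ (EtCoh.pull U.hom).map φ) := by
        refine (Function.Bijective.of_comp_iff' (Ext.mk₀_bijective _ _) _).1 ?_
        rw [show Ext.mk₀ ∘ (fun f : EtCoh.const U.left ℤ ⟶ (EtCoh.pull U.hom).obj M =>
          f ≫ (EtCoh.pull U.hom).map φ) = (fun x : EtCoh.H U.left ((EtCoh.pull U.hom).obj M) 0 =>
            x.comp (Ext.mk₀ ((EtCoh.pull U.hom).map φ)) (add_zero 0)) ∘ Ext.mk₀ from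
          funext fun f => (Ext.mk₀_comp_mk₀ _ _).symm]
        exact (h U).comp (Ext.mk₀_bijective _ _)
      let e := fun K => (EtCore.constAdj U.left).homEquiv (AddCommGrpCat.of (ULift.{u + 1} ℤ)) K
      have h2 : Function.Bijective (fun f : AddCommGrpCat.of (ULift.{u + 1} ℤ) ⟶ _ =>
          f ≫ (EtCore.gsec U.left).map ((EtCoh.pull U.hom).map φ)) := by
        refine (Function.Bijective.of_comp_iff _ (e _).bijective).1 ?_
        rw [show (fun f : AddCommGrpCat.of (ULift.{u + 1} ℤ) ⟶ _ =>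
            f ≫ (EtCore.gsec U.left).map ((EtCoh.pull U.hom).map φ)) ∘ e _ = e _ ∘ (fun f => f ≫
              (EtCoh.pull U.hom).map φ) from
          funext fun f => (Adjunction.homEquiv_naturality_right _ f _).symm]
        exact (e _).bijective.comp hHom
      haveI : IsIso ((EtCore.gsec U.left).map ((EtCoh.pull U.hom).map φ)) := by
        refine (ConcreteCategory.isIso_iff_bijective _).2 ⟨fun s t hst => ?_, fun s => ?_⟩
        · have := @h2.1 (AddCommGrpCat.ofHom ((zmultiplesHom _ s).comp AddEquiv.ulift.toAddMonoidHom))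
            (AddCommGrpCat.ofHom ((zmultiplesHom _ t).comp AddEquiv.ulift.toAddMonoidHom))
            (AddCommGrpCat.hom_ext (AddMonoidHom.ext fun n => by
              show _ = _
              simp only [AddCommGrpCat.hom_comp, AddMonoidHom.comp_apply, AddCommGrpCat.hom_ofHom,
                zmultiplesHom_apply, map_zsmul]
              exact congrArg _ hst))
          exact (one_zsmul s).symm.trans ((ConcreteCategory.congr_hom this (ULift.up 1)).trans (one_zsmul t))
        · obtain ⟨f, hf⟩ := h2.2 (AddCommGrpCat.ofHom ((zmultiplesHom _ s).comp AddEquiv.ulift.toAddMonoidHom))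
          refine ⟨f.hom (ULift.up 1), ?_⟩
          exact (ConcreteCategory.congr_hom hf (ULift.up 1)).trans (one_zsmul s)
      have e2 := secEquiv_natural φ U
      rw [← Iso.inv_comp_eq] at e2
      rw [← e2]
      infer_instance
    exact NatIso.isIso_of_isIso_app _
  haveI : IsIso ((sheafToPresheaf _ _).map φ) := inferInstanceAs (IsIso φ.hom)
  exact isIso_of_reflects_iso φ (sheafToPresheaf _ _)

end Detect

section Bounded

variable {A B : Scheme.{u}} (f : A ⟶ B) [PreservesFiniteLimits (EtCoh.pull f)]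

/-- The transpose of a short exact sequence pushed forward. -/
def counitτ (S : ShortComplex (EtCoh.Ab A)) [(EtCoh.push f).PreservesZeroMorphisms]
    [(EtCoh.pull f).PreservesZeroMorphisms] : (S.map (EtCoh.push f)).map (EtCoh.pull f) ⟶ S where
  τ₁ := (EtCoh.pullPushAdj f).counit.app S.X₁
  τ₂ := (EtCoh.pullPushAdj f).counit.app S.X₂
  τ₃ := (EtCoh.pullPushAdj f).counit.app S.X₃
  comm₁₂ := ((EtCoh.pullPushAdj f).counit.naturality S.f).symm
  comm₂₃ := ((EtCoh.pullPushAdj f).counit.naturality S.g).symm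

/-- `H^n(B, f_* G) → H^n(A, G)` is surjective when the higher direct images vanish up to `n`. -/
theorem HofPush_surjective : ∀ (n : ℕ) (G : EtCoh.Ab A),
    (∀ j, j < n → IsZero ((EtCoh.Rpush f (j + 1)).obj G)) → Function.Surjective (EtLim.HofPush f G n) := by
  haveI : (EtCoh.push f).IsRightAdjoint := (EtCoh.pullPushAdj f).isRightAdjoint
  intro n
  induction n with
  | zero => exact fun G _ => (HofPush_bijective_zero f G).2
  | succ n ih =>
    intro G hG z
    let S := embSES G
    have hS : S.ShortExact := embSES_shortExact G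
    have hS' := push_shortExact f hS (hG 0 (Nat.succ_pos n))
    haveI : Injective S.X₂ := inferInstanceAs (Injective (Injective.under G))
    obtain ⟨y, hy⟩ := Ext.covariant_sequence_exact₁ _ hS z (Ext.eq_zero_of_injective _) (rfl : n + 1 = n + 1)
    let T := SESResLib.derivedLES (EtCoh.push f)
    have hC : ∀ j, j < n → IsZero ((EtCoh.Rpush f (j + 1)).obj S.X₃) := fun j hj =>
      (T.exact₃ S hS (j + 1) (j + 2) rfl).isZero_X₂
        (((EtCoh.push f).isZero_rightDerived_obj_injective_succ j S.X₂).eq_of_src _ _)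
        ((hG (j + 1) (by omega)).eq_of_tgt _ _)
    obtain ⟨t, ht⟩ := ih S.X₃ hC y
    refine ⟨t.comp hS'.extClass rfl, ?_⟩
    refine (HpullThen_extClass f hS' hS (counitτ f S) n t).trans ?_
    exact (congrArg (fun r => Ext.comp r hS.extClass rfl) ht).trans hy

theorem HofPush_bijective (n : ℕ) (G : EtCoh.Ab A)
    (hG : ∀ j, j < n → IsZero ((EtCoh.Rpush f (j + 1)).obj G)) : Function.Bijective (EtLim.HofPush f G n) := by
  refine ⟨?_, HofPush_surjective f n G hG⟩
  rcases n with _ | n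
  · exact (HofPush_bijective_zero f G).1
  · exact HofPush_injective_succ f n G fun j hj => hG j (by omega)

/-- Pullback on cohomology factors through the unit. -/
theorem Hpull_eq_HofPush (F : EtCoh.Ab B) (n : ℕ) (x : EtCoh.H B F n) :
    EtCore.Hpull f F n x = EtLim.HofPush f ((EtCoh.pull f).obj F) n
      (x.comp (Ext.mk₀ ((EtCoh.pullPushAdj f).unit.app F)) (add_zero n)) := by
  have e : ((EtCoh.pullPushAdj f).homEquiv F ((EtCoh.pull f).obj F)).symm ((EtCoh.pullPushAdj f).unit.app F) = 𝟙 _ :=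
    (Adjunction.homEquiv_counit ..).trans ((EtCoh.pullPushAdj f).left_triangle_components F)
  refine Eq.trans ?_ (HpullThen_transpose (F := (EtCoh.pull f).obj F) f ((EtCoh.pullPushAdj f).unit.app F) n x)
  refine Eq.trans ?_ (congrArg (fun r => EtLim.HpullThen f F r n x) e.symm)
  rw [HpullThen_apply, Ext.comp_mk₀_id]

end Bounded

/-- Commutative squares survive pullback and base change. -/
theorem transpose_comm {A V W A' : Scheme.{u}} (p : A ⟶ V) (a : W ⟶ V) (p' : A' ⟶ W) (g' : A' ⟶ A)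
    (w : g' ≫ p = p' ≫ a) {P₁ P₂ : EtCoh.Ab V} {S₁ S₂ : EtCoh.Ab A} (f : P₁ ⟶ P₂)
    (e₁ : P₁ ⟶ (EtCoh.push p).obj S₁) (e₂ : P₂ ⟶ (EtCoh.push p).obj S₂) (s : S₁ ⟶ S₂)
    (h : f ≫ e₂ = e₁ ≫ (EtCoh.push p).map s) :
    (EtCoh.pull a).map f ≫ (EtCoh.pull a).map e₂ ≫ EtCoh.baseChange0 p a p' g' w S₂ =
      ((EtCoh.pull a).map e₁ ≫ EtCoh.baseChange0 p a p' g' w S₁) ≫
        (EtCoh.push p').map ((EtCoh.pull g').map s) := by
  rw [Category.assoc, ← baseChange0_naturality p a p' g' w s, ← Category.assoc, ← Category.assoc,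
    ← Functor.map_comp, ← Functor.map_comp, h]

section Square

variable {A V W A' : Scheme.{u}} (p : A ⟶ V) (a : W ⟶ V) (p' : A' ⟶ W) (g' : A' ⟶ A)
  (c : IsPullback g' p' p a) [AlgebraicGeometry.Etale a]

/-- Pullback along `p'` of a restriction, through the base change map. -/
theorem bijective_HofPush_unit (F : EtCoh.Ab V) (n : ℕ) [PreservesFiniteLimits (EtCoh.pull p')]
    (h : Function.Bijective (EtCore.Hpull p' ((EtCoh.pull a).obj F) n)) :
    Function.Bijective (fun x : EtCoh.H W ((EtCoh.pull a).obj F) n =>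
      EtLim.HofPush p' ((EtCoh.pull g').obj ((EtCoh.pull p).obj F)) n
        (x.comp (Ext.mk₀ ((EtCoh.pull a).map ((EtCoh.pullPushAdj p).unit.app F) ≫
          EtCoh.baseChange0 p a p' g' c.w ((EtCoh.pull p).obj F))) (add_zero n))) := by
  let k := (EtCoh.pull a).map ((EtCoh.pullPushAdj p).unit.app F) ≫
    EtCoh.baseChange0 p a p' g' c.w ((EtCoh.pull p).obj F)
  let K := ((EtCoh.pullPushAdj p').homEquiv _ _).symm k
  haveI : IsIso K := isIso_mate (EtCoh.pullPushAdj p) (EtCoh.pullPushAdj g') (EtCoh.pullPushAdj a)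
    (EtCoh.pullPushAdj p') (EtCoh.pushComp p g' ≪≫ EtCoh.pushCongr c.w ≪≫ (EtCoh.pushComp a p').symm) F
  have e : (fun x : EtCoh.H W ((EtCoh.pull a).obj F) n =>
      EtLim.HofPush p' ((EtCoh.pull g').obj ((EtCoh.pull p).obj F)) n (x.comp (Ext.mk₀ k) (add_zero n))) =
      (fun z => z.comp (Ext.mk₀ K) (add_zero n)) ∘ EtCore.Hpull p' ((EtCoh.pull a).obj F) n := funext fun x =>
    (HpullThen_transpose p' k n x).symm.trans (HpullThen_apply p' _ _ _ _)
  show Function.Bijective (fun x : EtCoh.H W ((EtCoh.pull a).obj F) n =>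
      EtLim.HofPush p' ((EtCoh.pull g').obj ((EtCoh.pull p).obj F)) n (x.comp (Ext.mk₀ k) (add_zero n)))
  rw [e]
  refine (Function.bijective_iff_has_inverse.2 ⟨fun z => z.comp (Ext.mk₀ (inv K)) (add_zero n),
    fun z => ?_, fun z => ?_⟩).comp h
  · simp [Ext.comp_assoc_of_third_deg_zero]
  · simp [Ext.comp_assoc_of_third_deg_zero]

variable [PreservesFiniteLimits (EtCoh.pull p')]

/-- Lifting classes along a transposed morphism of sequences. -/
theorem surjective_transpose_core {A' W : Scheme.{u}} (p' : A' ⟶ W) [PreservesFiniteLimits (EtCoh.pull p')]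
    {SA : ShortComplex (EtCoh.Ab A')} (hSA : SA.ShortExact) [Injective SA.X₂]
    {PW : ShortComplex (EtCoh.Ab W)} (hPW : PW.ShortExact) [Injective PW.X₂]
    (k₁ : PW.X₁ ⟶ (EtCoh.push p').obj SA.X₁) [IsIso k₁] (k₂ : PW.X₂ ⟶ (EtCoh.push p').obj SA.X₂) [IsIso k₂]
    (k₃ : PW.X₃ ⟶ (EtCoh.push p').obj SA.X₃) (c12 : PW.f ≫ k₂ = k₁ ≫ (EtCoh.push p').map SA.f)
    (c23 : PW.g ≫ k₃ = k₂ ≫ (EtCoh.push p').map SA.g) (n : ℕ)
    (hs : Function.Surjective (EtLim.HofPush p' SA.X₁ (n + 1))) :
    Function.Surjective (fun t : EtCoh.H W PW.X₃ n =>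
      EtLim.HofPush p' SA.X₃ n (t.comp (Ext.mk₀ k₃) (add_zero n))) := by
  haveI : (EtCoh.pull p').IsLeftAdjoint := (EtCoh.pullPushAdj p').isLeftAdjoint
  let adj := EtCoh.pullPushAdj p'
  let τ : PW.map (EtCoh.pull p') ⟶ SA :=
    { τ₁ := (adj.homEquiv _ _).symm k₁
      τ₂ := (adj.homEquiv _ _).symm k₂
      τ₃ := (adj.homEquiv _ _).symm k₃
      comm₁₂ := (Adjunction.homEquiv_naturality_right_symm _ k₁ SA.f).symm.trans
        ((congrArg (adj.homEquiv _ _).symm c12).symm.trans (Adjunction.homEquiv_naturality_left_symm _ PW.f k₂))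
      comm₂₃ := (Adjunction.homEquiv_naturality_right_symm _ k₂ SA.g).symm.trans
        ((congrArg (adj.homEquiv _ _).symm c23).symm.trans (Adjunction.homEquiv_naturality_left_symm _ PW.g k₃)) }
  intro z
  obtain ⟨y, hy⟩ := hs (z.comp hSA.extClass rfl)
  obtain ⟨t, ht⟩ := Ext.covariant_sequence_exact₁ _ hPW (y.comp (Ext.mk₀ (inv k₁)) (add_zero (n + 1)))
    (Ext.eq_zero_of_injective _) (rfl : n + 1 = n + 1)
  let T : EtCoh.H W PW.X₃ n → EtCoh.H A' SA.X₃ n := fun x => EtLim.HpullThen p' PW.X₃ τ.τ₃ n x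
  have hT : ∀ x, EtLim.HofPush p' SA.X₃ n (x.comp (Ext.mk₀ k₃) (add_zero n)) = T x :=
    fun x => (HpullThen_transpose p' k₃ n x).symm
  have key : (T t).comp hSA.extClass rfl = z.comp hSA.extClass rfl := by
    refine (HpullThen_extClass p' hPW hSA τ n t).symm.trans (Eq.trans ?_ hy)
    refine (congrArg (EtLim.HpullThen p' PW.X₁ τ.τ₁ (n + 1)) ht).trans ?_
    refine (HpullThen_transpose p' k₁ (n + 1) _).trans (congrArg (EtLim.HofPush p' SA.X₁ (n + 1)) ?_)
    rw [Ext.comp_assoc_of_third_deg_zero, Ext.mk₀_comp_mk₀, IsIso.inv_hom_id, Ext.comp_mk₀_id]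
  obtain ⟨z₀, hz₀⟩ := Ext.covariant_sequence_exact₃ _ hSA (z - T t) (n₁ := n + 1) rfl (by
    rw [sub_eq_add_neg, Ext.add_comp, Ext.neg_comp, key, add_neg_cancel])
  obtain ⟨r, hr⟩ : ∃ r : EtCoh.H W PW.X₂ n, EtLim.HpullThen p' PW.X₂ τ.τ₂ n r = z₀ := by
    rcases n with _ | m
    · obtain ⟨r, hr⟩ := (HofPush_bijective_zero p' SA.X₂).2 z₀
      refine ⟨r.comp (Ext.mk₀ (inv k₂)) (add_zero 0), ?_⟩
      refine (HpullThen_transpose p' k₂ 0 _).trans (Eq.trans (congrArg _ ?_) hr)
      rw [Ext.comp_assoc_of_third_deg_zero, Ext.mk₀_comp_mk₀, IsIso.inv_hom_id, Ext.comp_mk₀_id]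
    · exact ⟨0, (map_zero _).trans (Ext.eq_zero_of_injective z₀).symm⟩
  refine ⟨t + r.comp (Ext.mk₀ PW.g) (add_zero n), (hT _).trans ?_⟩
  show EtLim.HpullThen p' PW.X₃ τ.τ₃ n (t + r.comp (Ext.mk₀ PW.g) (add_zero n)) = z
  rw [map_add, HpullThen_mk₀ p' PW.g τ.τ₃ n r]
  have h2 : EtLim.HpullThen p' PW.X₂ ((EtCoh.pull p').map PW.g ≫ τ.τ₃) n r =
      z₀.comp (Ext.mk₀ SA.g) (add_zero n) := by
    rw [← hr, HpullThen_comp_mk₀]
    exact congrArg (fun q => EtLim.HpullThen p' PW.X₂ q n r) τ.comm₂₃.symm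
  rw [h2, hz₀]
  exact add_sub_cancel _ _

/-- Lifting classes along a pushed sequence. -/
theorem surjective_transpose {S : ShortComplex (EtCoh.Ab A)} (hS : S.ShortExact) [Injective S.X₂]
    {P : ShortComplex (EtCoh.Ab V)} (hP : P.ShortExact) [Injective P.X₂]
    (e₁ : P.X₁ ⟶ (EtCoh.push p).obj S.X₁) [IsIso e₁] (e₂ : P.X₂ ⟶ (EtCoh.push p).obj S.X₂) [IsIso e₂]
    (k : P.X₃ ⟶ (EtCoh.push p).obj S.X₃) (h12 : P.f ≫ e₂ = e₁ ≫ (EtCoh.push p).map S.f)
    (h23 : P.g ≫ k = e₂ ≫ (EtCoh.push p).map S.g) (n : ℕ)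
    (hs : Function.Surjective (EtLim.HofPush p' ((EtCoh.pull g').obj S.X₁) (n + 1))) :
    Function.Surjective (fun t : EtCoh.H W ((EtCoh.pull a).obj P.X₃) n =>
      EtLim.HofPush p' ((EtCoh.pull g').obj S.X₃) n
        (t.comp (Ext.mk₀ ((EtCoh.pull a).map k ≫ EtCoh.baseChange0 p a p' g' c.w S.X₃)) (add_zero n))) := by
  haveI : AlgebraicGeometry.Etale g' := MorphismProperty.of_isPullback c.flip ‹AlgebraicGeometry.Etale a›
  haveI := EtFound.jCont g'
  haveI := EtFound.jCont a
  haveI := EtFound.pull_preservesFiniteLimits g'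
  haveI := EtFound.pull_preservesFiniteLimits a
  haveI : (EtCoh.pull g').IsLeftAdjoint := (EtCoh.pullPushAdj g').isLeftAdjoint
  haveI : (EtCoh.pull a).IsLeftAdjoint := (EtCoh.pullPushAdj a).isLeftAdjoint
  haveI : Injective (S.map (EtCoh.pull g')).X₂ := EtLC12.AffineLocalAcyclic.injective_pull g' S.X₂
  haveI : Injective (P.map (EtCoh.pull a)).X₂ := EtLC12.AffineLocalAcyclic.injective_pull a P.X₂
  haveI : ∀ M : EtCoh.Ab A, IsIso (EtCoh.baseChange0 p a p' g' c.w M) :=
    isIso_baseChange0_of_etale a p p' g' c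
  haveI : IsIso ((EtCoh.pull a).map e₁) := inferInstance
  haveI : IsIso ((EtCoh.pull a).map e₂) := inferInstance
  exact @surjective_transpose_core A' W p' _ (S.map (EtCoh.pull g')) (hS.map_of_exact _) _
    (P.map (EtCoh.pull a)) (hP.map_of_exact _) _
    ((EtCoh.pull a).map e₁ ≫ EtCoh.baseChange0 p a p' g' c.w S.X₁) IsIso.comp_isIso
    ((EtCoh.pull a).map e₂ ≫ EtCoh.baseChange0 p a p' g' c.w S.X₂) IsIso.comp_isIso
    ((EtCoh.pull a).map k ≫ EtCoh.baseChange0 p a p' g' c.w S.X₃)
    (transpose_comm p a p' g' c.w P.f e₁ e₂ S.f h12) (transpose_comm p a p' g' c.w P.g e₂ k S.g h23) n hs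

end Square

/-- The composite in an exact complex. -/
theorem zero_of_exact {C : Type*} [Category C] [Preadditive C] {E : ShortComplex C} (_ : E.Exact) :
    E.f ≫ E.g = 0 := E.zero

section Main

variable {X Y : Scheme.{u}} (g : X ⟶ Y) (V : Y.Etale)

/-- The étale `Y`-scheme underlying an étale `V`-scheme. -/
def comp (U : V.left.Etale) : Y.Etale :=
  haveI : AlgebraicGeometry.Etale U.hom := U.prop
  haveI : AlgebraicGeometry.Etale V.hom := V.prop
  Scheme.Etale.mk (U.hom ≫ V.hom)

theorem comp_hom (U : V.left.Etale) : (comp V U).hom = U.hom ≫ V.hom := rfl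

/-- The comparison of projections. -/
def lift (U : V.left.Etale) : pullback (comp V U).hom g ⟶ pullback V.hom g :=
  pullback.map (comp V U).hom g V.hom g U.hom (𝟙 X) (𝟙 Y) (Category.comp_id _) (by simp)

theorem isPullback (U : V.left.Etale) :
    IsPullback (lift g V U) (EtAcyc.prj g (comp V U)) (EtAcyc.prj g V) U.hom := by
  refine IsPullback.of_right ?_ (pullback.lift_fst _ _ _) (IsPullback.of_hasPullback V.hom g).flip
  rw [show lift g V U ≫ pullback.snd V.hom g = pullback.snd _ _ from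
    (pullback.lift_snd _ _ _).trans (Category.comp_id _)]
  exact (IsPullback.of_hasPullback (comp V U).hom g).flip

/-- The inductive statement for the vanishing of higher direct images. -/
theorem isZero_Rpush_succ : ∀ (q : ℕ) (G : EtCoh.Ab (pullback V.hom g)),
    (∀ j, j < q → IsZero ((EtCoh.Rpush (EtAcyc.prj g V) (j + 1)).obj G)) →
    (∀ U : V.left.Etale, ∀ [PreservesFiniteLimits (EtCoh.pull (EtAcyc.prj g (comp V U)))],
      Function.Surjective (EtLim.HofPush (EtAcyc.prj g (comp V U)) ((EtCoh.pull (lift g V U)).obj G) (q + 1))) →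
    IsZero ((EtCoh.Rpush (EtAcyc.prj g V) (q + 1)).obj G) := by
  let p := EtAcyc.prj g V
  haveI := EtFound.pull_preservesFiniteLimits p
  haveI : (EtCoh.push p).IsRightAdjoint := (EtCoh.pullPushAdj p).isRightAdjoint
  haveI : (EtCoh.pull p).PreservesMonomorphisms := inferInstance
  let T := SESResLib.derivedLES (EtCoh.push p)
  intro q
  induction q with
  | zero =>
    intro G _ hsurj
    let S := embSES G
    have hS : S.ShortExact := embSES_shortExact G
    haveI := hS.mono_f
    haveI : Injective S.X₂ := inferInstanceAs (Injective (Injective.under G))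
    let P : ShortComplex (EtCoh.Ab V.left) :=
      ShortComplex.mk ((EtCoh.push p).map S.f) (cokernel.π ((EtCoh.push p).map S.f)) (cokernel.condition _)
    have hP : P.ShortExact :=
      { exact := ShortComplex.exact_of_g_is_cokernel _ (cokernelIsCokernel _)
        mono_f := inferInstanceAs (Mono ((EtCoh.push p).map S.f))
        epi_g := inferInstanceAs (Epi (cokernel.π _)) }
    haveI : Injective P.X₂ := Injective.injective_of_adjoint (EtCoh.pullPushAdj p) S.X₂
    let k : P.X₃ ⟶ (EtCoh.push p).obj S.X₃ := cokernel.desc _ ((EtCoh.push p).map S.g)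
      (((EtCoh.push p).map_comp _ _).symm.trans ((congrArg (EtCoh.push p).map S.zero).trans (Functor.map_zero _ _ _)))
    have hk : P.g ≫ k = (EtCoh.push p).map S.g := cokernel.π_desc _ _ _
    haveI : Mono k := by
      refine Preadditive.mono_of_cancel_zero k fun {T₀} t ht => ?_
      obtain ⟨T', π, _, t', ht'⟩ := surjective_up_to_refinements_of_epi P.g t
      refine (cancel_epi π).1 (ht'.trans (Eq.trans ?_ comp_zero.symm))
      let hlim := (KernelFork.isLimitMapConeEquiv _ _).1 (isLimitOfPreserves (EtCoh.push p) hS.fIsKernel)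
      have h0 : t' ≫ (EtCoh.push p).map S.g = 0 := by
        rw [← hk, ← Category.assoc, ← ht', Category.assoc, ht, comp_zero]
      obtain ⟨l, hl⟩ := KernelFork.IsLimit.lift' hlim t' h0
      rw [← hl]
      refine (Category.assoc _ _ _).trans ?_
      exact (congrArg (l ≫ ·) P.zero).trans comp_zero
    haveI : IsIso k := isIso_of_H0 k fun U => by
      haveI : AlgebraicGeometry.Etale U.hom := U.prop
      haveI := EtFound.pull_preservesFiniteLimits (EtAcyc.prj g (comp V U))
      haveI := EtFound.pull_preservesFiniteLimits U.hom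
      haveI : IsIso (EtCoh.baseChange0 p U.hom (EtAcyc.prj g (comp V U)) (lift g V U) (isPullback g V U).w S.X₃) :=
        isIso_baseChange0_of_etale U.hom p _ _ (isPullback g V U) S.X₃
      refine ⟨fun x y hxy => ?_, fun z => ?_⟩
      · refine sub_eq_zero.1 (BcQCalc.eq_zero_of_comp_mono ((EtCoh.pull U.hom).map k) (x - y) ?_)
        simp only at hxy
        rw [sub_eq_add_neg, Ext.add_comp, Ext.neg_comp, hxy, add_neg_cancel]
      · obtain ⟨t, ht⟩ := surjective_transpose p U.hom _ _ (isPullback g V U) hS hP (𝟙 _) (𝟙 _) k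
          (by rw [Category.id_comp]; exact Category.comp_id _) (by rw [Category.id_comp, hk]) 0 (hsurj U)
          (EtLim.HofPush _ _ 0 (z.comp (Ext.mk₀ (EtCoh.baseChange0 p U.hom (EtAcyc.prj g (comp V U)) (lift g V U)
            (isPullback g V U).w S.X₃)) (add_zero 0)))
        refine ⟨t, ?_⟩
        have h3 := (HofPush_bijective_zero _ _).1 ht
        rw [← Ext.mk₀_comp_mk₀, ← Ext.comp_assoc_of_third_deg_zero] at h3
        have h4 := congrArg (fun r => Ext.comp r (Ext.mk₀ (inv (EtCoh.baseChange0 p U.hom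
          (EtAcyc.prj g (comp V U)) (lift g V U) (isPullback g V U).w S.X₃))) (add_zero 0)) h3
        simpa [Ext.comp_assoc_of_third_deg_zero] using h4
    haveI : Epi ((EtCoh.push p).map S.g) := by rw [← hk]; infer_instance
    haveI : Epi (((EtCoh.push p).rightDerived 0).map S.g) :=
      epi_of_natIso (EtCoh.push p).rightDerivedZeroIsoSelf S.g
    exact (T.exact₁ S hS 0 1 rfl).isZero_X₂
      ((cancel_epi (((EtCoh.push p).rightDerived 0).map S.g)).1
        ((zero_of_exact (T.exact₃ S hS 0 1 rfl)).trans comp_zero.symm))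
      (((EtCoh.push p).isZero_rightDerived_obj_injective_succ 0 S.X₂).eq_of_tgt _ _)
  | succ q ih =>
    intro G hG hsurj
    let S := embSES G
    have hS : S.ShortExact := embSES_shortExact G
    haveI : Injective S.X₂ := inferInstanceAs (Injective (Injective.under G))
    have hP := push_shortExact p hS (hG 0 (Nat.succ_pos q))
    haveI : Injective (S.map (EtCoh.push p)).X₂ := Injective.injective_of_adjoint (EtCoh.pullPushAdj p) S.X₂
    have hC : IsZero ((EtCoh.Rpush p (q + 1)).obj S.X₃) := by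
      refine ih S.X₃ (fun j hj => ?_) fun U _ => ?_
      · exact (T.exact₃ S hS (j + 1) (j + 2) rfl).isZero_X₂
          (((EtCoh.push p).isZero_rightDerived_obj_injective_succ j S.X₂).eq_of_src _ _)
          ((hG (j + 1) (by omega)).eq_of_tgt _ _)
      · haveI : AlgebraicGeometry.Etale U.hom := U.prop
        have h := surjective_transpose p U.hom _ _ (isPullback g V U) hS hP (𝟙 _) (𝟙 _) (𝟙 _)
          ((Category.comp_id _).trans (Category.id_comp _).symm)
          ((Category.comp_id _).trans (Category.id_comp _).symm) (q + 1) (hsurj U)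
        exact fun z => (h z).elim fun t ht => ⟨_, ht⟩
    exact (T.exact₁ S hS (q + 1) (q + 2) rfl).isZero_X₂ (hC.eq_of_src _ _)
      (((EtCoh.push p).isZero_rightDerived_obj_injective_succ (q + 1) S.X₂).eq_of_tgt _ _)

end Main

end Groth.Agent.EtAcycLib.UnitRpush
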