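import Groth.Agent.EtAcycLib.UnitRpush
import Groth.Agent.S3510

/-!
# Acyclicity is checked on a basis of the étale site
-/

set_option autoImplicit false
set_option linter.unusedSectionVars false
set_option linter.style.haveILetI false
set_option backward.isDefEq.respectTransparency false
set_option backward.isDefEq.respectTransparency.types false

universe u

open CategoryTheory CategoryTheory.Limits AlgebraicGeometry Opposite Abelian

noncomputable section

namespace Groth.Agent.EtAcycLib.UnitRpush

open Groth.Agent.BcQCalc Groth.Agent.EtLim8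

variable {V : Scheme.{u}}

/-- Every point of every étale scheme has a neighbourhood in the family. -/
def Cofinal (P : V.Etale → Prop) : Prop :=
  ∀ (U : V.Etale) (x : U.left), ∃ (W : V.Etale) (g : W ⟶ U) (w : W.left), P W ∧ g.left.base w = x

/-- Bijectivity on `H⁰` gives bijectivity on sections. -/
theorem bijective_app_of_H0 {M N : EtCoh.Ab V} (φ : M ⟶ N) (U : V.Etale)
    (h : Function.Bijective
      (fun x : EtCoh.H U.left ((EtCoh.pull U.hom).obj M) 0 =>
        x.comp (Ext.mk₀ ((EtCoh.pull U.hom).map φ)) (add_zero 0))) :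
    Function.Bijective (φ.hom.app (op U)) := by
  have hHom : Function.Bijective (fun f : EtCoh.const U.left ℤ ⟶ (EtCoh.pull U.hom).obj M =>
      f ≫ (EtCoh.pull U.hom).map φ) := by
    refine (Function.Bijective.of_comp_iff' (Ext.mk₀_bijective _ _) _).1 ?_
    rw [show Ext.mk₀ ∘ (fun f : EtCoh.const U.left ℤ ⟶ (EtCoh.pull U.hom).obj M =>
      f ≫ (EtCoh.pull U.hom).map φ) = (fun x : EtCoh.H U.left ((EtCoh.pull U.hom).obj M) 0 =>
        x.comp (Ext.mk₀ ((EtCoh.pull U.hom).map φ)) (add_zero 0)) ∘ Ext.mk₀ from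
      funext fun f => (Ext.mk₀_comp_mk₀ _ _).symm]
    exact h.comp (Ext.mk₀_bijective _ _)
  let e := fun K => (EtCore.constAdj U.left).homEquiv (AddCommGrpCat.of (ULift.{u + 1} ℤ)) K
  have h2 : Function.Bijective (fun f : AddCommGrpCat.of (ULift.{u + 1} ℤ) ⟶ _ =>
      f ≫ (EtCore.gsec U.left).map ((EtCoh.pull U.hom).map φ)) := by
    refine (Function.Bijective.of_comp_iff _ (e _).bijective).1 ?_
    rw [show (fun f : AddCommGrpCat.of (ULift.{u + 1} ℤ) ⟶ _ =>
        f ≫ (EtCore.gsec U.left).map ((EtCoh.pull U.hom).map φ)) ∘ e _ = e _ ∘ (fun f => f ≫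
          (EtCoh.pull U.hom).map φ) from
      funext fun f => (Adjunction.homEquiv_naturality_right _ f _).symm]
    exact (e _).bijective.comp hHom
  haveI : IsIso ((EtCore.gsec U.left).map ((EtCoh.pull U.hom).map φ)) := by
    refine (ConcreteCategory.isIso_iff_bijective _).2 ⟨fun s t hst => ?_, fun s => ?_⟩
    · have := @h2.1 (AddCommGrpCat.ofHom ((zmultiplesHom _ s).comp AddEquiv.ulift.toAddMonoidHom))
        (AddCommGrpCat.ofHom ((zmultiplesHom _ t).comp AddEquiv.ulift.toAddMonoidHom))
        (AddCommGrpCat.hom_ext (AddMonoidHom.ext fun n => by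
          show _ = _
          simp only [AddCommGrpCat.hom_comp, AddMonoidHom.comp_apply, AddCommGrpCat.hom_ofHom,
            zmultiplesHom_apply, map_zsmul]
          exact congrArg _ hst))
      exact (one_zsmul s).symm.trans ((ConcreteCategory.congr_hom this (ULift.up 1)).trans (one_zsmul t))
    · obtain ⟨f, hf⟩ := h2.2 (AddCommGrpCat.ofHom ((zmultiplesHom _ s).comp AddEquiv.ulift.toAddMonoidHom))
      refine ⟨f.hom (ULift.up 1), ?_⟩
      exact (ConcreteCategory.congr_hom hf (ULift.up 1)).trans (one_zsmul s)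
  have e2 := secEquiv_natural φ U
  rw [← Iso.inv_comp_eq] at e2
  refine (ConcreteCategory.isIso_iff_bijective _).1 ?_
  rw [← e2]
  infer_instance

/-- Bijectivity on sections over a cofinal family gives an isomorphism. -/
theorem isIso_of_cofinal {M N : EtCoh.Ab V} (φ : M ⟶ N) {P : V.Etale → Prop} (hP : Cofinal P)
    (h : ∀ U, P U → Function.Bijective (φ.hom.app (op U))) : IsIso φ := by
  have hi : Presheaf.IsLocallyInjective V.smallEtaleTopology φ.hom := ⟨fun {U} s t e => by
    refine (EtFound.mem_topology_iff _).2 fun x => ?_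
    obtain ⟨W, g, w, hW, hw⟩ := hP U.unop x
    refine ⟨W, g, w, (h W hW).1 ?_, hw⟩
    exact (NatTrans.naturality_apply φ.hom g.op s).trans ((congrArg _ e).trans (NatTrans.naturality_apply φ.hom g.op t).symm)⟩
  have hs : Presheaf.IsLocallySurjective V.smallEtaleTopology φ.hom := ⟨fun {U} s => by
    refine (EtFound.mem_topology_iff _).2 fun x => ?_
    obtain ⟨W, g, w, hW, hw⟩ := hP U x
    obtain ⟨a, ha⟩ := (h W hW).2 ((N.obj.map g.op).hom s)
    exact ⟨W, g, w, ⟨a, ha⟩, hw⟩⟩
  exact (Sheaf.isLocallyBijective_iff_isIso φ).1 ⟨hi, hs⟩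

section Main

variable {X Y : Scheme.{u}} (g : X ⟶ Y) (V : Y.Etale)

/-- Vanishing of higher direct images from surjectivity on a cofinal family. -/
theorem isZero_Rpush_succ_basis {P : V.left.Etale → Prop} (hP : Cofinal P) :
    ∀ (q : ℕ) (G : EtCoh.Ab (pullback V.hom g)),
    (∀ j, j < q → IsZero ((EtCoh.Rpush (EtAcyc.prj g V) (j + 1)).obj G)) →
    (∀ U : V.left.Etale, P U → ∀ [PreservesFiniteLimits (EtCoh.pull (EtAcyc.prj g (comp V U)))],
      Function.Surjective (EtLim.HofPush (EtAcyc.prj g (comp V U)) ((EtCoh.pull (lift g V U)).obj G) (q + 1))) →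
    IsZero ((EtCoh.Rpush (EtAcyc.prj g V) (q + 1)).obj G) := by
  let p := EtAcyc.prj g V
  haveI := EtFound.pull_preservesFiniteLimits p
  haveI : (EtCoh.push p).IsRightAdjoint := (EtCoh.pullPushAdj p).isRightAdjoint
  haveI : (EtCoh.pull p).PreservesMonomorphisms := inferInstance
  let T := SESResLib.derivedLES (EtCoh.push p)
  intro q
  induction q with
  | zero =>
    intro G _ hsurj
    let S := embSES G
    have hS : S.ShortExact := embSES_shortExact G
    haveI := hS.mono_f
    haveI : Injective S.X₂ := inferInstanceAs (Injective (Injective.under G))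
    let Q : ShortComplex (EtCoh.Ab V.left) :=
      ShortComplex.mk ((EtCoh.push p).map S.f) (cokernel.π ((EtCoh.push p).map S.f)) (cokernel.condition _)
    have hQ : Q.ShortExact :=
      { exact := ShortComplex.exact_of_g_is_cokernel _ (cokernelIsCokernel _)
        mono_f := inferInstanceAs (Mono ((EtCoh.push p).map S.f))
        epi_g := inferInstanceAs (Epi (cokernel.π _)) }
    haveI : Injective Q.X₂ := Injective.injective_of_adjoint (EtCoh.pullPushAdj p) S.X₂
    let k : Q.X₃ ⟶ (EtCoh.push p).obj S.X₃ := cokernel.desc _ ((EtCoh.push p).map S.g)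
      (((EtCoh.push p).map_comp _ _).symm.trans ((congrArg (EtCoh.push p).map S.zero).trans (Functor.map_zero _ _ _)))
    have hk : Q.g ≫ k = (EtCoh.push p).map S.g := cokernel.π_desc _ _ _
    haveI : Mono k := by
      refine Preadditive.mono_of_cancel_zero k fun {T₀} t ht => ?_
      obtain ⟨T', π, _, t', ht'⟩ := surjective_up_to_refinements_of_epi Q.g t
      refine (cancel_epi π).1 (ht'.trans (Eq.trans ?_ comp_zero.symm))
      let hlim := (KernelFork.isLimitMapConeEquiv _ _).1 (isLimitOfPreserves (EtCoh.push p) hS.fIsKernel)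
      have h0 : t' ≫ (EtCoh.push p).map S.g = 0 := by
        rw [← hk, ← Category.assoc, ← ht', Category.assoc, ht, comp_zero]
      obtain ⟨l, hl⟩ := KernelFork.IsLimit.lift' hlim t' h0
      rw [← hl]
      refine (Category.assoc _ _ _).trans ?_
      exact (congrArg (l ≫ ·) Q.zero).trans comp_zero
    haveI : IsIso k := isIso_of_cofinal k hP fun U hU => bijective_app_of_H0 k U <| by
      haveI : AlgebraicGeometry.Etale U.hom := U.prop
      haveI := EtFound.pull_preservesFiniteLimits (EtAcyc.prj g (comp V U))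
      haveI := EtFound.pull_preservesFiniteLimits U.hom
      haveI : IsIso (EtCoh.baseChange0 p U.hom (EtAcyc.prj g (comp V U)) (lift g V U) (isPullback g V U).w S.X₃) :=
        isIso_baseChange0_of_etale U.hom p _ _ (isPullback g V U) S.X₃
      refine ⟨fun x y hxy => ?_, fun z => ?_⟩
      · refine sub_eq_zero.1 (BcQCalc.eq_zero_of_comp_mono ((EtCoh.pull U.hom).map k) (x - y) ?_)
        simp only at hxy
        rw [sub_eq_add_neg, Ext.add_comp, Ext.neg_comp, hxy, add_neg_cancel]
      · obtain ⟨t, ht⟩ := surjective_transpose p U.hom _ _ (isPullback g V U) hS hQ (𝟙 _) (𝟙 _) k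
          (by rw [Category.id_comp]; exact Category.comp_id _) (by rw [Category.id_comp, hk]) 0 (hsurj U hU)
          (EtLim.HofPush _ _ 0 (z.comp (Ext.mk₀ (EtCoh.baseChange0 p U.hom (EtAcyc.prj g (comp V U)) (lift g V U)
            (isPullback g V U).w S.X₃)) (add_zero 0)))
        refine ⟨t, ?_⟩
        have h3 := (HofPush_bijective_zero _ _).1 ht
        rw [← Ext.mk₀_comp_mk₀, ← Ext.comp_assoc_of_third_deg_zero] at h3
        have h4 := congrArg (fun r => Ext.comp r (Ext.mk₀ (inv (EtCoh.baseChange0 p U.hom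
          (EtAcyc.prj g (comp V U)) (lift g V U) (isPullback g V U).w S.X₃))) (add_zero 0)) h3
        simpa [Ext.comp_assoc_of_third_deg_zero] using h4
    haveI : Epi ((EtCoh.push p).map S.g) := by rw [← hk]; infer_instance
    haveI : Epi (((EtCoh.push p).rightDerived 0).map S.g) :=
      epi_of_natIso (EtCoh.push p).rightDerivedZeroIsoSelf S.g
    exact (T.exact₁ S hS 0 1 rfl).isZero_X₂
      ((cancel_epi (((EtCoh.push p).rightDerived 0).map S.g)).1
        ((zero_of_exact (T.exact₃ S hS 0 1 rfl)).trans comp_zero.symm))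
      (((EtCoh.push p).isZero_rightDerived_obj_injective_succ 0 S.X₂).eq_of_tgt _ _)
  | succ q ih =>
    intro G hG hsurj
    let S := embSES G
    have hS : S.ShortExact := embSES_shortExact G
    haveI : Injective S.X₂ := inferInstanceAs (Injective (Injective.under G))
    have hQ := push_shortExact p hS (hG 0 (Nat.succ_pos q))
    haveI : Injective (S.map (EtCoh.push p)).X₂ := Injective.injective_of_adjoint (EtCoh.pullPushAdj p) S.X₂
    have hC : IsZero ((EtCoh.Rpush p (q + 1)).obj S.X₃) := by
      refine ih S.X₃ (fun j hj => ?_) fun U hU _ => ?_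
      · exact (T.exact₃ S hS (j + 1) (j + 2) rfl).isZero_X₂
          (((EtCoh.push p).isZero_rightDerived_obj_injective_succ j S.X₂).eq_of_src _ _)
          ((hG (j + 1) (by omega)).eq_of_tgt _ _)
      · haveI : AlgebraicGeometry.Etale U.hom := U.prop
        have h := surjective_transpose p U.hom _ _ (isPullback g V U) hS hQ (𝟙 _) (𝟙 _) (𝟙 _)
          ((Category.comp_id _).trans (Category.id_comp _).symm)
          ((Category.comp_id _).trans (Category.id_comp _).symm) (q + 1) (hsurj U hU)
        exact fun z => (h z).elim fun t ht => ⟨_, ht⟩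
    exact (T.exact₁ S hS (q + 1) (q + 2) rfl).isZero_X₂ (hC.eq_of_src _ _)
      (((EtCoh.push p).isZero_rightDerived_obj_injective_succ (q + 1) S.X₂).eq_of_tgt _ _)

/-- `n`-acyclicity can be checked on a basis of the étale site. -/
theorem isAcyclicN_of_basis (L : Set ℕ) (n : ℕ) (B : ∀ W : Scheme.{u}, (W ⟶ Y) → Prop)
    (hB : ∀ (W : Y.Etale) (x : W.left), ∃ (W' : Y.Etale) (h : W' ⟶ W) (w : W'.left),
      B W'.left W'.hom ∧ h.left.base w = x)
    (hcomp : ∀ W : Y.Etale, B W.left W.hom → EtAcyc.CompN (EtAcyc.prj g W) L n) :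
    EtAcyc.IsAcyclicN g L n := by
  refine (S3510.result g L n).2 fun V F hF => ?_
  let P : V.left.Etale → Prop := fun U => B U.left (U.hom ≫ V.hom)
  have hP : Cofinal P := fun U x => by
    haveI : AlgebraicGeometry.Etale U.hom := U.prop
    haveI : AlgebraicGeometry.Etale V.hom := V.prop
    obtain ⟨W', h, w, hW', hw⟩ := hB (comp V U) x
    haveI : AlgebraicGeometry.Etale W'.hom := W'.prop
    haveI : AlgebraicGeometry.Etale (h.left ≫ (comp V U).hom) := by
      rw [MorphismProperty.Over.w h]; infer_instance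
    haveI : AlgebraicGeometry.Etale h.left := Etale.of_comp h.left (comp V U).hom
    let W : V.left.Etale := Scheme.Etale.mk (h.left ≫ U.hom)
    refine ⟨W, MorphismProperty.Over.homMk h.left rfl trivial, w, ?_, hw⟩
    show B W'.left ((h.left ≫ U.hom) ≫ V.hom)
    rw [Category.assoc, show U.hom ≫ V.hom = (comp V U).hom from rfl, MorphismProperty.Over.w h]
    exact hW'
  let p := EtAcyc.prj g V
  let G := (EtCoh.pull p).obj F
  have hb : ∀ (U : V.left.Etale), P U → ∀ (q : ℕ), q ≤ n →
      ∀ [PreservesFiniteLimits (EtCoh.pull (EtAcyc.prj g (comp V U)))],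
      Function.Bijective (fun x : EtCoh.H U.left ((EtCoh.pull U.hom).obj F) q =>
        EtLim.HofPush (EtAcyc.prj g (comp V U)) ((EtCoh.pull (lift g V U)).obj G) q
          (x.comp (Ext.mk₀ ((EtCoh.pull U.hom).map ((EtCoh.pullPushAdj p).unit.app F) ≫
            EtCoh.baseChange0 p U.hom (EtAcyc.prj g (comp V U)) (lift g V U) (isPullback g V U).w G))
            (add_zero q))) := fun U hU q hq inst => by
    haveI := inst
    haveI : AlgebraicGeometry.Etale U.hom := U.prop
    exact bijective_HofPush_unit p U.hom _ _ (isPullback g V U) F q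
      ((hcomp (comp V U) hU ((EtCoh.pull U.hom).obj F) (isLTorsion_pull U.hom hF)).1 q hq)
  refine ⟨?_, fun q hq1 hqn => ?_⟩
  · refine isIso_of_cofinal _ hP fun U hU => bijective_app_of_H0 _ U ?_
    haveI : AlgebraicGeometry.Etale U.hom := U.prop
    haveI := EtFound.pull_preservesFiniteLimits (EtAcyc.prj g (comp V U))
    exact @S3510.bijective_comp_aux _ _ (EtAcyc.prj g (comp V U)) _ _ _ _
      ((EtCoh.pull U.hom).map ((EtCoh.pullPushAdj p).unit.app F))
      (EtCoh.baseChange0 p U.hom (EtAcyc.prj g (comp V U)) (lift g V U) (isPullback g V U).w G)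
      (isIso_baseChange0_of_etale U.hom p _ _ (isPullback g V U) G) (hb U hU 0 (Nat.zero_le n))
  · have H : ∀ q : ℕ, q < n → IsZero ((EtCoh.Rpush p (q + 1)).obj G) := by
      intro q
      induction q using Nat.strong_induction_on with
      | _ q ih =>
        intro hqn
        refine isZero_Rpush_succ_basis g V hP q G (fun j hj => ih j hj (by omega)) fun U hU inst z => ?_
        haveI := inst
        obtain ⟨x, hx⟩ := (hb U hU (q + 1) hqn).2 z
        exact ⟨_, hx⟩
    obtain ⟨k, rfl⟩ := Nat.exists_eq_add_of_le hq1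
    exact (add_comm 1 k) ▸ H k (by omega)

end Main

end Groth.Agent.EtAcycLib.UnitRpush
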