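import Groth.Prelude.Def_LefMon
import Groth.Agent.EtAcycLib.Compose
import Groth.Agent.AcycFin.ConstPull
import Groth.Agent.S8536

/-!
# Functoriality of pullback on `H^i(-, ℤ/ℓ^ν)`
-/

set_option autoImplicit false
set_option linter.style.haveILetI false
set_option backward.isDefEq.respectTransparency false
set_option backward.isDefEq.respectTransparency.types false

universe u

open CategoryTheory CategoryTheory.Limits AlgebraicGeometry CategoryTheory.Abelian

noncomputable section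

namespace Groth.Agent.EtAcycLib

variable {W U X : Scheme.{u}}

theorem Hmap_apply (ℓ : ℕ) (f : U ⟶ X) (hf : PreservesFiniteLimits (EtCoh.pull f)) (i ν : ℕ)
    (x : EtAdic.Hmod X ℓ i ν) :
    EtAdic.Hmap ℓ f hf i ν x = (haveI := hf; EtCore.Hpull f (EtCoh.const X (ZMod (ℓ ^ ν))) i x).comp
      (Ext.mk₀ (EtCore.pullConst f (ZMod (ℓ ^ ν))).hom) (add_zero i) := rfl

theorem Hmap_comp (ℓ : ℕ) (g : W ⟶ U) (f : U ⟶ X) (h : W ⟶ X) (w : g ≫ f = h)
    (hg : PreservesFiniteLimits (EtCoh.pull g)) (hf : PreservesFiniteLimits (EtCoh.pull f))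
    (hh : PreservesFiniteLimits (EtCoh.pull h)) (i ν : ℕ) (x : EtAdic.Hmod X ℓ i ν) :
    EtAdic.Hmap ℓ g hg i ν (EtAdic.Hmap ℓ f hf i ν x) = EtAdic.Hmap ℓ h hh i ν x := by
  haveI := hg
  haveI := hf
  haveI := hh
  have e := AcycFin.pullConst_comp_gen f h g w (ZMod (ℓ ^ ν))
  have e' : (((EtCore.pullComp g f).symm ≪≫ EtCore.pullCongr w).hom.app (EtCoh.const X (ZMod (ℓ ^ ν)))) ≫
      (EtCore.pullConst h (ZMod (ℓ ^ ν))).hom =
      (EtCoh.pull g).map (EtCore.pullConst f (ZMod (ℓ ^ ν))).hom ≫ (EtCore.pullConst g (ZMod (ℓ ^ ν))).hom := by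
    rw [← cancel_epi ((EtCoh.pull g).map (EtCore.pullConst f (ZMod (ℓ ^ ν))).inv),
      ← cancel_epi (EtCore.pullConst g (ZMod (ℓ ^ ν))).inv]
    rw [← Category.assoc ((EtCoh.pull g).map _) _ _, ← Category.assoc, e, Iso.inv_hom_id, ← Category.assoc ((EtCoh.pull g).map _) _ _, ← Functor.map_comp,
      Iso.inv_hom_id, CategoryTheory.Functor.map_id, Category.id_comp, Iso.inv_hom_id]
  rw [Hmap_apply, Hmap_apply, Hmap_apply, S8536.Hpull_comp_mk₀, ← Hpull_comp g f h w,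
    Ext.comp_assoc_of_second_deg_zero, Ext.comp_assoc_of_second_deg_zero, Ext.mk₀_comp_mk₀, Ext.mk₀_comp_mk₀, e']

end Groth.Agent.EtAcycLib
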