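import Groth.Agent.Hensel.Henselization
import Mathlib.FieldTheory.IsSepClosed

/-!
# Maps between strict henselizations
-/

set_option autoImplicit false
set_option linter.style.haveILetI false
set_option linter.unusedSectionVars false
universe u

open IsLocalRing

namespace Groth.Agent.EtAcycLib

variable {R R' S S' T : Type u} [CommRing R] [IsLocalRing R] [CommRing R'] [IsLocalRing R']
  [CommRing S] [IsLocalRing S] [Algebra R S] [IsLocalHom (algebraMap R S)] [_root_.Hensel.IsStrictHenselization R S]
  [CommRing S'] [IsLocalRing S'] [Algebra R' S'] [IsLocalHom (algebraMap R' S')]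
  [_root_.Hensel.IsStrictHenselization R' S']

/-- a map of residue fields lifts -/
theorem exists_lift [CommRing T] [HenselianLocalRing T] (f : R →+* T) [IsLocalHom f]
    (τ : ResidueField S →+* ResidueField T)
    (hτ : τ.comp (ResidueField.map (algebraMap R S)) = ResidueField.map f) :
    ∃ g : S →+* T, IsLocalHom g ∧ g.comp (algebraMap R S) = f ∧ ∀ x, residue T (g x) = τ (residue S x) := by
  obtain ⟨g, ⟨hg, hg'⟩, -⟩ := _root_.Hensel.IsStrictHenselization.universal (R := R) (S := S) T f τ hτ
  refine ⟨g, ⟨fun x hx => ?_⟩, hg, hg'⟩
  by_contra h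
  have h0 : residue S x = 0 := (residue_eq_zero_iff x).2 h
  have := hg' x
  rw [h0, map_zero, residue_eq_zero_iff] at this
  exact this hx

/-- a local map to a henselian ring with separably closed residue field extends to the strict henselization -/
theorem exists_strict_lift [CommRing T] [HenselianLocalRing T] [IsSepClosed (ResidueField T)] (f : R →+* T)
    [IsLocalHom f] : ∃ g : S →+* T, IsLocalHom g ∧ g.comp (algebraMap R S) = f := by
  haveI : IsSepClosure (ResidueField R) (ResidueField S) := _root_.Hensel.IsStrictHenselization.isSepClosure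
  haveI : Algebra.IsSeparable (ResidueField R) (ResidueField S) := IsSepClosure.separable
  letI : Algebra (ResidueField R) (ResidueField T) := (ResidueField.map f).toAlgebra
  let τ : ResidueField S →ₐ[ResidueField R] ResidueField T := IsSepClosed.lift
  obtain ⟨g, hl, hg, -⟩ := exists_lift f τ.toRingHom (RingHom.ext τ.commutes)
  exact ⟨g, hl, hg⟩

/-- a map out of a strict henselization factors through an intermediate one -/
theorem exists_strict_factor [CommRing T] [HenselianLocalRing T] (f : R →+* R') [IsLocalHom f]
    (j : R' →+* T) [IsLocalHom j] (i : S →+* T) [IsLocalHom i] (k : S' →+* T) [IsLocalHom k]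
    (hi : i.comp (algebraMap R S) = j.comp f) (hk : k.comp (algebraMap R' S') = j) :
    ∃ ρ : S →+* S', IsLocalHom ρ ∧ ρ.comp (algebraMap R S) = (algebraMap R' S').comp f ∧ k.comp ρ = i := by
  haveI : IsSepClosure (ResidueField R) (ResidueField S) := _root_.Hensel.IsStrictHenselization.isSepClosure
  haveI : Algebra.IsSeparable (ResidueField R) (ResidueField S) := IsSepClosure.separable
  haveI : IsSepClosure (ResidueField R') (ResidueField S') := _root_.Hensel.IsStrictHenselization.isSepClosure
  haveI : IsSepClosed (ResidueField S') := IsSepClosure.sep_closed (ResidueField R')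
  haveI : HenselianLocalRing S' := _root_.Hensel.IsStrictHenselization.henselian R'
  letI : Algebra (ResidueField R) (ResidueField S') :=
    ((ResidueField.map (algebraMap R' S')).comp (ResidueField.map f)).toAlgebra
  letI : Algebra (ResidueField S') (ResidueField T) := (ResidueField.map k).toAlgebra
  letI : Algebra (ResidueField R) (ResidueField T) := ((ResidueField.map j).comp (ResidueField.map f)).toAlgebra
  haveI : IsScalarTower (ResidueField R) (ResidueField S') (ResidueField T) := .of_algebraMap_eq fun x => by
    obtain ⟨r, rfl⟩ := residue_surjective x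
    exact congrArg (residue T) (congr($hk (f r))).symm
  let ι : ResidueField S →ₐ[ResidueField R] ResidueField T :=
    { ResidueField.map i with
      commutes' := fun x => by
        obtain ⟨r, rfl⟩ := residue_surjective x
        exact congrArg (residue T) congr($hi r) }
  have hrange : ∀ x, ι x ∈ (IsScalarTower.toAlgHom (ResidueField R) (ResidueField S') (ResidueField T)).range := by
    intro x
    have hp : ((minpoly (ResidueField R) x).map (algebraMap _ (ResidueField S'))).Splits :=
      IsSepClosed.splits_codomain (f := algebraMap (ResidueField R) (ResidueField S')) _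
        (Algebra.IsSeparable.isSeparable (ResidueField R) x)
    refine Polynomial.Splits.mem_range_of_isRoot hp
      ((Polynomial.map_ne_zero_iff (RingHom.injective _)).2 (minpoly.ne_zero (Algebra.IsIntegral.isIntegral x))) ?_
    rw [Polynomial.map_map, Polynomial.IsRoot.def, Polynomial.eval_map]
    have h0 : Polynomial.aeval (ι x) (minpoly (ResidueField R) x) = 0 := by
      rw [Polynomial.aeval_algHom_apply, minpoly.aeval, map_zero]
    rw [Polynomial.aeval_def, IsScalarTower.algebraMap_eq (ResidueField R) (ResidueField S') (ResidueField T)] at h0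
    exact h0
  choose τ₀ hτ₀ using hrange
  have hinj := (ResidueField.map k).injective
  let τ : ResidueField S →+* ResidueField S' :=
    { toFun := τ₀
      map_one' := hinj ((hτ₀ 1).trans ((map_one ι).trans (map_one _).symm))
      map_zero' := hinj ((hτ₀ 0).trans ((map_zero ι).trans (map_zero _).symm))
      map_mul' := fun a b => hinj ((hτ₀ (a * b)).trans ((map_mul ι a b).trans
        ((congrArg₂ (· * ·) (hτ₀ a).symm (hτ₀ b).symm).trans (map_mul _ _ _).symm)))
      map_add' := fun a b => hinj ((hτ₀ (a + b)).trans ((map_add ι a b).trans
        ((congrArg₂ (· + ·) (hτ₀ a).symm (hτ₀ b).symm).trans (map_add _ _ _).symm))) }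
  have hτ : ∀ x, ResidueField.map k (τ x) = ResidueField.map i x := hτ₀
  obtain ⟨ρ, hρl, hρ, hρr⟩ := exists_lift (S := S) ((algebraMap R' S').comp f) τ (RingHom.ext fun x => by
    obtain ⟨r, rfl⟩ := residue_surjective x
    refine hinj ((hτ _).trans ?_)
    exact congrArg (residue T) ((congr($hi r)).trans (congr($hk (f r))).symm))
  refine ⟨ρ, hρl, hρ, ?_⟩
  refine (_root_.Hensel.IsStrictHenselization.universal (R := R) (S := S) T (j.comp f) (ResidueField.map i) (RingHom.ext fun x => by
    obtain ⟨r, rfl⟩ := residue_surjective x
    exact congrArg (residue T) congr($hi r))).unique ⟨?_, fun x => ?_⟩ ⟨hi, fun x => rfl⟩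
  · rw [RingHom.comp_assoc, hρ, ← RingHom.comp_assoc, hk]
  · rw [← hτ, ← hρr]
    rfl

end Groth.Agent.EtAcycLib
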